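import Cfsg.Agent.Lib.Fischer.UB.A9.R0
import Cfsg.Agent.Lib.Fischer.UB.A9.R1

set_option autoImplicit false
set_option maxRecDepth 100000

namespace Cfsg.Agent.Fi.UA9

open Cfsg.Agent.PC

theorem rows : ∀ i < 14080, row i = 0 := by
  have h := zero_lt_zero row
  have h := zero_lt_add (a := (nat_lit 0)) (n := (nat_lit 3000)) (b := (nat_lit 3000)) h r0 rfl
  have h := zero_lt_add (a := (nat_lit 3000)) (n := (nat_lit 3000)) (b := (nat_lit 6000)) h r3000 rfl
  have h := zero_lt_add (a := (nat_lit 6000)) (n := (nat_lit 3000)) (b := (nat_lit 9000)) h r6000 rfl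
  have h := zero_lt_add (a := (nat_lit 9000)) (n := (nat_lit 3000)) (b := (nat_lit 12000)) h r9000 rfl
  have h := zero_lt_add (a := (nat_lit 12000)) (n := (nat_lit 2080)) (b := (nat_lit 14080)) h r12000 rfl
  exact h
theorem auxs : ∀ i < 5151, aux i = 0 := by
  have h := zero_lt_zero aux
  have h := zero_lt_add (a := (nat_lit 0)) (n := (nat_lit 4000)) (b := (nat_lit 4000)) h a0 rfl
  have h := zero_lt_add (a := (nat_lit 4000)) (n := (nat_lit 1151)) (b := (nat_lit 5151)) h a4000 rfl
  exact h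
theorem closes.{u} : ClosesT.{u} (fun j => j) rels 9 8 14080 T :=
  hc_closes (N1 := (nat_lit 14079)) rfl T_eq (by decide +kernel) rows auxs
theorem T_inv : ∀ c < 14080, ∀ j < 9, T j c < 14080 ∧ T j (T j c) = c := 
  hc_inv (inv := (fun j => j)) (N1 := (nat_lit 14079)) rfl T_eq rows

end Cfsg.Agent.Fi.UA9
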